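import Groth.Prelude.Def_LogNCD2
import Groth.Agent.Lib.TensorMod.HomGlue
import Groth.Agent.Lib.Ample.GenLocus

/-!
# A connection on a line bundle from connection forms

The gluing follows `Groth.Agent.Lib.TensorMod.HomGlue.exists_hom_of_gen`.
-/

set_option autoImplicit false
set_option backward.isDefEq.respectTransparency false
universe u
open CategoryTheory AlgebraicGeometry Opposite TopologicalSpace
open Groth.Agent.Lib.TensorMod.Gen Groth.Agent.Lib.TensorMod.Dual Groth.Agent.Lib.TensorMod.HomGlue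
open Groth.Agent.Lib.Ample.GenLocus

namespace Groth.Agent.H12.CycConn

variable {X S : Scheme.{u}} {f : X ⟶ S} {Ω' : X.Modules}

theorem der_rs (δ : OmegaSh.Der f Ω') {U V : X.Opens} (h : V ≤ U) (a : Γ(X, U)) :
    rs Ω' h (δ.app U a) = δ.app V (rf h a) :=
  (PresheafOfModules.Derivation.d_map δ (homOfLE h).op a).symm

theorem der_mul (δ : OmegaSh.Der f Ω') {U : X.Opens} (a b : Γ(X, U)) :
    δ.app U (a * b) = a • δ.app U b + b • δ.app U a :=
  PresheafOfModules.Derivation.d_mul δ a b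

theorem tmul_add {M N : X.Modules} {U : X.Opens} (m : Γ(M, U)) (n n' : Γ(N, U)) :
    (SecTwist.tmul M N U m (n + n') : Γ(CohB1.tensorMod M N, U)) =
      (SecTwist.tmul M N U m n : Γ(CohB1.tensorMod M N, U)) + SecTwist.tmul M N U m n' :=
  by rw [← pairM_id, ← pairM_id, ← pairM_id, Groth.Agent.Lib.TensorMod.Pullback.pairM_add_right]

theorem der_one (δ : OmegaSh.Der f Ω') (U : X.Opens) : δ.app U 1 = 0 := by
  have h := der_mul δ (U := U) 1 1
  rw [mul_one, one_smul] at h
  simpa using h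

theorem tmul_smul_right {M N : X.Modules} {U : X.Opens} (a : Γ(X, U)) (m : Γ(M, U)) (n : Γ(N, U)) :
    (SecTwist.tmul M N U m (a • n) : Γ(CohB1.tensorMod M N, U)) =
      a • (SecTwist.tmul M N U m n : Γ(CohB1.tensorMod M N, U)) := by
  conv_lhs => rw [← one_smul Γ(X, U) m]
  rw [tmul_smul, one_mul]

theorem tmul_smul_left {M N : X.Modules} {U : X.Opens} (a : Γ(X, U)) (m : Γ(M, U)) (n : Γ(N, U)) :
    (SecTwist.tmul M N U (a • m) n : Γ(CohB1.tensorMod M N, U)) =
      a • (SecTwist.tmul M N U m n : Γ(CohB1.tensorMod M N, U)) := by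
  conv_lhs => rw [← one_smul Γ(X, U) n]
  rw [tmul_smul, mul_one]

variable {ι : Type*} {U : ι → X.Opens} {M : X.Modules}

/-- The value of the connection on `a μ`. -/
noncomputable def term (δ : OmegaSh.Der f Ω') {W : X.Opens} (μ : Γ(M, W)) (ω : Γ(Ω', W)) (a : Γ(X, W)) :
    Γ(CohB1.tensorMod M Ω', W) :=
  SecTwist.tmul M Ω' W μ (a • ω + δ.app W a)

theorem rs_term (δ : OmegaSh.Der f Ω') {V W : X.Opens} (h : V ≤ W) (μ : Γ(M, W)) (ω : Γ(Ω', W))
    (a : Γ(X, W)) : rs _ h (term δ μ ω a) = term δ (rs M h μ) (rs Ω' h ω) (rf h a) := by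
  rw [term, rs_tmul, rs_add, rs_smul, der_rs]
  rfl

theorem term_change (δ : OmegaSh.Der f Ω') {W : X.Opens} (μ' : Γ(M, W)) (ω ω' : Γ(Ω', W))
    (a c : Γ(X, W)) (h : c • ω = c • ω' + δ.app W c) :
    term δ (c • μ') ω a = term δ μ' ω' (a * c) := by
  rw [term, term, tmul_smul_left, ← tmul_smul_right]
  congr 1
  rw [smul_add, smul_comm c a, h, der_mul, smul_add, mul_smul]
  abel

/-- A connection is given by compatible connection forms. -/
theorem exists_conn_of_gen (δ : OmegaSh.Der f Ω') (hU : iSup U = ⊤) (μ : ∀ i, Γ(M, U i))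
    (hμ : ∀ i, IsGen M (U i) (μ i)) (ω : ∀ i, Γ(Ω', U i))
    (hc : ∀ (i j : ι) (W : X.Opens) (hi : W ≤ U i) (hj : W ≤ U j) (c : Γ(X, W)),
      rs M hi (μ i) = c • rs M hj (μ j) → c • rs Ω' hi (ω i) = c • rs Ω' hj (ω j) + δ.app W c) :
    ∃ nabla : Coh.toAb M ⟶ Coh.toAb (CohB1.tensorMod M Ω'), ConnSh.IsConn δ M nabla ∧
      ∀ i, ConnSh.secApp nabla (U i) (μ i) = SecTwist.tmul M Ω' (U i) (μ i) (ω i) := by
  let T := CohB1.tensorMod M Ω'
  have h : ∀ (V : X.Opens) (x : Γ(M, V)), ∃! y : Γ(T, V), ∀ i, ∀ a : Γ(X, V ⊓ U i),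
      rs M inf_le_left x = a • rs M inf_le_right (μ i) →
        rs T inf_le_left y = term δ (rs M inf_le_right (μ i)) (rs Ω' inf_le_right (ω i)) a := by
    intro V x
    let a : ∀ i, Γ(X, V ⊓ U i) := fun i => ((hμ i (V ⊓ U i) inf_le_right).2 (rs M inf_le_left x)).choose
    have ha : ∀ i, a i • rs M inf_le_right (μ i) = rs M inf_le_left x := fun i =>
      ((hμ i (V ⊓ U i) inf_le_right).2 (rs M inf_le_left x)).choose_spec
    obtain ⟨y, hy, huy⟩ := TopCat.Sheaf.existsUnique_gluing'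
      (⟨T.presheaf, T.isSheaf⟩ : TopCat.Sheaf Ab.{u} X) (fun i => V ⊓ U i) V
      (fun i => homOfLE inf_le_left) (by rw [← inf_iSup_eq, hU]; exact le_inf le_rfl le_top)
      (fun i => term δ (rs M inf_le_right (μ i)) (rs Ω' inf_le_right (ω i)) (a i)) fun i j => by
        let W := (V ⊓ U i) ⊓ (V ⊓ U j)
        change rs T (inf_le_left : W ≤ V ⊓ U i) _ = rs T (inf_le_right : W ≤ V ⊓ U j) _
        obtain ⟨c, hc'⟩ := (hμ j W (inf_le_right.trans inf_le_right)).2
          (rs M (inf_le_left.trans inf_le_right : W ≤ U i) (μ i))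
        have hx : rs M (inf_le_left : W ≤ V ⊓ U i) (rs M inf_le_left x) =
            rs M (inf_le_right : W ≤ V ⊓ U j) (rs M inf_le_left x) := by rw [rs_rs, rs_rs]
        rw [← ha i, ← ha j, rs_smul, rs_smul, rs_rs, rs_rs, ← hc', smul_smul] at hx
        have hcoef := (hμ j W (inf_le_right.trans inf_le_right)).1 hx
        rw [rs_term, rs_term, rs_rs, rs_rs, rs_rs, rs_rs, ← hc',
          term_change δ _ _ _ _ _ (hc i j W _ _ c hc'.symm), hcoef]
    refine ⟨y, fun i b hb => ?_, fun y' hy' => huy y' fun i => hy' i (a i) (ha i).symm⟩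
    rw [← ha i] at hb
    rw [← (hμ i (V ⊓ U i) inf_le_right).1 hb]
    exact hy i
  choose val hval huniq using h
  have hadd : ∀ (V : X.Opens) (x x' : Γ(M, V)), val V (x + x') = val V x + val V x' := by
    intro V x x'
    refine (huniq V _ _ fun i b hb => ?_).symm
    obtain ⟨a, ha⟩ := (hμ i (V ⊓ U i) inf_le_right).2 (rs M inf_le_left x)
    obtain ⟨a', ha'⟩ := (hμ i (V ⊓ U i) inf_le_right).2 (rs M inf_le_left x')
    simp only at ha ha'
    rw [rs_add, ← ha, ← ha', ← add_smul] at hb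
    rw [rs_add, hval V x i a ha.symm, hval V x' i a' ha'.symm,
      ← (hμ i (V ⊓ U i) inf_le_right).1 hb, term, term, term, ← tmul_add]
    congr 1
    rw [add_smul, map_add]
    abel
  have hnat : ∀ (V W : X.Opens) (h : W ≤ V) (x : Γ(M, V)), rs T h (val V x) = val W (rs M h x) := by
    intro V W hWV x
    refine huniq W _ _ fun i b hb => ?_
    obtain ⟨a, ha⟩ := (hμ i (V ⊓ U i) inf_le_right).2 (rs M inf_le_left x)
    simp only at ha
    have h' : W ⊓ U i ≤ V ⊓ U i := inf_le_inf_right _ hWV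
    have h1 := congrArg (rs M h') ha
    rw [rs_smul, rs_rs, rs_rs] at h1
    rw [rs_rs] at hb
    have h2 := (hμ i (W ⊓ U i) inf_le_right).1 (h1.trans hb)
    rw [rs_rs, ← h2, ← rs_rs T inf_le_left h', hval V x i a ha.symm, rs_term, rs_rs, rs_rs]
  let nabla : Coh.toAb M ⟶ Coh.toAb T :=
    ⟨{ app := fun V => AddCommGrpCat.ofHom (X := M.val.obj V) (Y := T.val.obj V)
        (AddMonoidHom.mk' (val V.unop) (hadd V.unop))
       naturality := fun {V W} g => by
         ext x
         exact (hnat V.unop W.unop g.unop.le x).symm }⟩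
  refine ⟨nabla, fun V t x => ?_, fun i => ?_⟩
  · show val V (t • x) = @HAdd.hAdd Γ(T, V) Γ(T, V) Γ(T, V) _ (t • val V x) (SecTwist.tmul M Ω' V x (δ.app V t))
    refine (huniq V _ _ fun i b hb => ?_).symm
    obtain ⟨a, ha⟩ := (hμ i (V ⊓ U i) inf_le_right).2 (rs M inf_le_left x)
    simp only at ha
    rw [rs_smul, ← ha, smul_smul] at hb
    rw [rs_add, rs_smul, rs_tmul, hval V x i a ha.symm, der_rs, ← ha,
      ← (hμ i (V ⊓ U i) inf_le_right).1 hb, term, term, ← tmul_smul_right, tmul_smul_left,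
      ← tmul_smul_right, ← tmul_add]
    congr 1
    rw [der_mul, smul_add, mul_smul]
    abel
  · show val (U i) (μ i) = _
    refine (huniq (U i) (μ i) _ fun j b hb => ?_).symm
    rw [rs_tmul]
    have h1 : (rs M inf_le_left (μ i) : Γ(M, U i ⊓ U j)) = b • rs M inf_le_right (μ j) := hb
    have h2 := term_change δ (rs M inf_le_right (μ j)) (rs Ω' (inf_le_left : U i ⊓ U j ≤ U i) (ω i)) (rs Ω' inf_le_right (ω j))
      1 b (hc i j (U i ⊓ U j) inf_le_left inf_le_right b h1)
    rw [one_mul, ← h1] at h2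
    rw [← h2, term, one_smul, der_one, add_zero]

end Groth.Agent.H12.CycConn
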