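import Groth.Agent.H12.CycPush.Glue
import Groth.Agent.H12.CycConn.ConnGlue
import Groth.Agent.Lib.LogNCD37.Residue
import Groth.Agent.Lib.LogNCD37.Assemble

/-!
# The logarithmic connection on the inverse of an integral part

Charts and frame changes are as in `Groth.Agent.H12.CycPush.Glue`.
-/

set_option autoImplicit false
set_option linter.style.haveILetI false
set_option backward.isDefEq.respectTransparency false
universe u
open CategoryTheory AlgebraicGeometry TopologicalSpace Opposite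
open Groth.Agent.Lib.TensorMod.Gen Groth.Agent.Lib.TensorMod.Dual Groth.Agent.Lib.TensorMod.HomGlue
open Groth.Agent.Lib.Ample.GenLocus
open Groth.Agent.H95 Groth.Agent.H95.CycCover Groth.Agent.H81.CycIrred

namespace Groth.Agent.H12.CycConn

section Dlog

variable {X S : Scheme.{u}} {f : X ⟶ S} {F : X.Modules} (δ : OmegaSh.Der f F) {U : X.Opens}

/-- `η` is the logarithmic derivative of `G`. -/
def IsDlog (G : Γ(X, U)) (η : Γ(F, U)) : Prop := G • η = δ.app U G

variable {δ}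

theorem IsDlog.mul {G G' : Γ(X, U)} {η η' : Γ(F, U)} (h : IsDlog δ G η) (h' : IsDlog δ G' η') :
    IsDlog δ (G * G') (η + η') := by
  rw [IsDlog, der_mul, ← h', ← h, smul_add, smul_smul, smul_smul, mul_comm G' G, add_comm]

theorem isDlog_one : IsDlog δ (1 : Γ(X, U)) (0 : Γ(F, U)) := by
  rw [IsDlog, der_one, smul_zero]

theorem IsDlog.pow {G : Γ(X, U)} {η : Γ(F, U)} (h : IsDlog δ G η) :
    ∀ n : ℕ, IsDlog δ (G ^ n) ((n : Γ(X, U)) • η)
  | 0 => by rw [pow_zero, Nat.cast_zero, zero_smul]; exact isDlog_one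
  | n + 1 => by
    rw [pow_succ, Nat.cast_succ, add_smul, one_smul]
    exact (h.pow n).mul h

theorem IsDlog.prod {κ : Type*} (T : Finset κ) {G : κ → Γ(X, U)} {η : κ → Γ(F, U)}
    (h : ∀ l ∈ T, IsDlog δ (G l) (η l)) : IsDlog δ (∏ l ∈ T, G l) (∑ l ∈ T, η l) := by
  classical
  induction T using Finset.induction_on with
  | empty => exact isDlog_one
  | @insert c T hc ih =>
    rw [Finset.prod_insert hc, Finset.sum_insert hc]
    exact (h c (Finset.mem_insert_self c T)).mul (ih fun l hl => h l (Finset.mem_insert_of_mem hl))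

theorem isDlog_unit (u : Γ(X, U)ˣ) : IsDlog δ (u : Γ(X, U)) (((u⁻¹ : Γ(X, U)ˣ) : Γ(X, U)) • δ.app U u) := by
  rw [IsDlog, smul_smul, Units.mul_inv, one_smul]

theorem IsDlog.res {V : X.Opens} (hV : V ≤ U) {G : Γ(X, U)} {η : Γ(F, U)} (h : IsDlog δ G η) :
    IsDlog δ (rf hV G) (rs F hV η) := by
  rw [IsDlog, ← rs_smul, h, der_rs]

end Dlog

variable {k : Type u} [Field k] {X : Scheme.{u}}
  (f : X ⟶ Spec (CommRingCat.of k)) {Ω' : X.Modules} {d : OmegaSh.Der f Ω'}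
  {L : X.Modules} {N : ℕ} {r : ℕ} (D : Fin r → X.IdealSheafData) (α : Fin r → ℕ) (i : ℕ)
  (s : Coh.structureModule X ⟶ CohB1.tensorPow L N) (M : X.Modules)
  (hM : CohB1.tensorMod (CycCov.intPart L D α N i) M ≅ Coh.structureModule X)
  (Λ : LogNCD.LogMod d (CycCov.poleDiv D α N i))

/-- A chart for the connection. -/
structure Chart where
  U : X.affineOpens
  e : Γ(L, U.1)
  he : IsGen L U.1 e
  φ : Γ(X, U.1)
  hφ : SecTwist.val s U.1 = φ • CycCov.lpow L U.1 e N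
  E : Γ(X, U.1)
  hE0 : E ≠ 0
  hE : (CycCov.floorIdeal D α N i).ideal U = Ideal.span {E}
  σ : Γ(ClSub.idealMod (CycCov.floorIdeal D α N i), U.1)
  hσ : (ClSub.idealModι (CycCov.floorIdeal D α N i)).app U.1 σ = E
  g : Fin r → Γ(X, U.1)
  hg : ∀ l, (CycCov.poleDiv D α N i l).ideal U = Ideal.span {g l}
  G : Γ(X, U.1)
  hG : φ ^ i = E ^ N * G
  hGdvd : G ∣ (∏ l, g l) ^ N
  ω : Γ(Λ.L, U.1)
  hω : IsDlog (LogNCD.der Λ) G ((N : Γ(X, U.1)) • ω)
  hres : ∀ j, (N : Γ(X, U.1)) • (Λ.res j).app U.1 ω =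
    (CycCov.resNum α N i j : Γ(X, U.1)) • LogNCD.oneOn (CycCov.poleDiv D α N i j) U.1
  μ : Γ(M, U.1)
  hμ : IsGen M U.1 μ
  hone : hM.hom.app U.1 (SecTwist.tmul (CycCov.intPart L D α N i) M U.1
    (SecTwist.tmul (CohB1.tensorPow L i) (ClSub.idealMod (CycCov.floorIdeal D α N i)) U.1
      (CycCov.lpow L U.1 e i) σ) μ) = one X U.1

include f in
theorem isUnit_natCast (hNk : (N : k) ≠ 0) (U : X.Opens) : IsUnit (N : Γ(X, U)) := by
  rw [← map_natCast (CycNCD.str f U)]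
  exact (isUnit_iff_ne_zero.mpr hNk).map _

variable [IsIntegral X] [Smooth f]

omit [Smooth f] in
theorem exists_chartData (hN : 0 < N) (hNk : (N : k) ≠ 0) (hL : PicF.IsInvertible L)
    (hD : LogNCD.IsNCD D f) (hs : CycCov.IsZeroDiv (CohB1.tensorPow L N) s (CycCov.divIdeal D α))
    (hMi : PicF.IsInvertible M) (x : X) : ∃ C : Chart f D α i s M hM Λ, x ∈ C.U.1 := by
  classical
  obtain ⟨W₁, e₁, hxW₁, he₁⟩ := isInvertible_iff.mp hL x
  obtain ⟨W₂, hxW₂, hW₂⟩ := CycPush.exists_chart f D hD x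
  obtain ⟨W₃, μ₁, hxW₃, hμ₁⟩ := isInvertible_iff.mp hMi x
  obtain ⟨U₀, hU₀, hxU, hle⟩ := exists_isAffineOpen_mem_and_subset (X := X) (x := x)
    (U := W₁ ⊓ W₂ ⊓ W₃) ⟨⟨hxW₁, hxW₂⟩, hxW₃⟩
  set U : X.affineOpens := ⟨U₀, hU₀⟩
  haveI : Nonempty U.1 := ⟨⟨x, hxU⟩⟩
  set e := rs L (hle.trans (inf_le_left.trans inf_le_left) : U.1 ≤ W₁) e₁
  have he : IsGen L U.1 e := he₁.res _
  obtain ⟨a, ha, ha0, -⟩ := hW₂ U (hle.trans (inf_le_left.trans inf_le_right))
  obtain ⟨φ, hφ⟩ := Frames.exists_phi s he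
  have hspan := Frames.span_phi s hs U he φ hφ
  rw [Base.divIdeal_ideal] at hspan
  simp only [ha, Ideal.span_singleton_pow, Ideal.prod_span_singleton,
    Ideal.span_singleton_eq_span_singleton] at hspan
  obtain ⟨u₀, hu₀⟩ := hspan
  have hnt : Nontrivial Γ(X, U.1) := inferInstance
  set E : Γ(X, U.1) := ∏ l, a l ^ (i * α l / N) with hEdef
  have hE0 : E ≠ 0 := Finset.prod_ne_zero_iff.mpr fun l _ => pow_ne_zero _ (ha0 hnt l)
  have hE : (CycCov.floorIdeal D α N i).ideal U = Ideal.span {E} := by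
    rw [CycCov.floorIdeal, Base.divIdeal_ideal]
    simp only [ha, Ideal.span_singleton_pow, Ideal.prod_span_singleton, E]
  obtain ⟨σ, hσ⟩ := (Lib.ClSub.Sections.mem_range_idealModι_app_affine_iff
    (CycCov.floorIdeal D α N i) U E).mpr (hE.symm ▸ Ideal.mem_span_singleton_self _)
  have hσgen : IsGen (ClSub.idealMod (CycCov.floorIdeal D α N i)) U.1 σ :=
    CycPush.isGen_of_isIso_ofSection σ (Lib.ClSub.Cartier.isIso_ofSection_restrict _ U E
      (mem_nonZeroDivisors_of_ne_zero hE0) hE σ hσ)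
  -- the equations of the poles
  let g : Fin r → Γ(X, U.1) := fun l => if N ∣ i * α l then 1 else a l
  have hg : ∀ l, (CycCov.poleDiv D α N i l).ideal U = Ideal.span {g l} := by
    intro l
    by_cases h : N ∣ i * α l
    · simp only [CycCov.poleDiv, g, if_pos h, Ideal.span_singleton_one, Scheme.IdealSheafData.ideal_top]
      rfl
    · simp only [CycCov.poleDiv, g, if_neg h]
      exact ha l
  obtain ⟨-, dl, hdl, -, hres1, hres2⟩ := Λ.rule U g hg
  set m : Fin r → ℕ := fun l => CycCov.resNum α N i l with hm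
  set G : Γ(X, U.1) := ((u₀ ^ i : Γ(X, U.1)ˣ) : Γ(X, U.1)) * ∏ l, g l ^ m l with hGdef
  have hG : φ ^ i = E ^ N * G := by
    have h1 : ∀ l, g l ^ m l = a l ^ m l := by
      intro l
      by_cases h : N ∣ i * α l
      · simp only [g, m, CycCov.resNum, if_pos h, Nat.mod_eq_zero_of_dvd h, pow_zero]
      · simp only [g, if_neg h]
    rw [← hu₀, hGdef, hEdef, mul_pow, Units.val_pow_eq_pow_val]
    simp only [h1, ← Finset.prod_pow, ← pow_mul]
    rw [mul_left_comm, ← Finset.prod_mul_distrib]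
    rw [mul_comm]
    congr 1
    refine Finset.prod_congr rfl fun l _ => ?_
    rw [← pow_add]
    congr 1
    simp only [m, CycCov.resNum]
    rw [mul_comm (_ / N) N, Nat.div_add_mod, mul_comm]
  have hGdvd : G ∣ (∏ l, g l) ^ N := by
    rw [hGdef, ← Finset.prod_pow]
    exact (Units.mul_left_dvd (u := u₀ ^ i)).mpr (Finset.prod_dvd_prod_of_dvd _ _ fun l _ =>
      pow_dvd_pow _ (Nat.mod_lt _ hN).le)
  -- the form
  obtain ⟨ν, hν⟩ := (isUnit_natCast f hNk U.1).exists_right_inv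
  let dl' : Fin r → Γ(Λ.L, U.1) := dl
  have hdl' : ∀ l, IsDlog (LogNCD.der Λ) (g l) (dl' l) := hdl
  let η : Γ(Λ.L, U.1) := (((u₀ ^ i)⁻¹ : Γ(X, U.1)ˣ) : Γ(X, U.1)) •
    (LogNCD.der Λ).app U.1 ((u₀ ^ i : Γ(X, U.1)ˣ) : Γ(X, U.1)) + ∑ l, (m l : Γ(X, U.1)) • dl' l
  have hω : IsDlog (LogNCD.der Λ) G ((N : Γ(X, U.1)) • ν • η) := by
    rw [smul_smul, hν, one_smul, hGdef]
    exact (isDlog_unit (u₀ ^ i)).mul (IsDlog.prod Finset.univ fun l _ => IsDlog.pow (hdl' l) (m l))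
  have hres : ∀ j, (N : Γ(X, U.1)) • (Λ.res j).app U.1 (ν • η) =
      (m j : Γ(X, U.1)) • LogNCD.oneOn (CycCov.poleDiv D α N i j) U.1 := by
    intro j
    rw [Scheme.Modules.Hom.app_smul, smul_smul, hν, one_smul]
    refine Eq.trans ?_ (Lib.LogNCD37.Basic.res_sum Λ
      ((((u₀ ^ i)⁻¹ : Γ(X, U.1)ˣ) : Γ(X, U.1)) • d.app U.1 ((u₀ ^ i : Γ(X, U.1)ˣ) : Γ(X, U.1)))
      (fun l => (m l : Γ(X, U.1))) dl hres1 hres2 j)
    rw [Lib.LogNCD37.Basic.app_smul]
    rfl
  -- the generator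
  have hgen0 := isGen_tmul (Frames.isGen_lpow he i) hσgen
  have hμ' := hμ₁.res (hle.trans inf_le_right : U.1 ≤ W₃)
  have hgen := isGen_of_isIso_over (isIso_over_of_iso hM U.1) (isGen_tmul hgen0 hμ')
  obtain ⟨c, hc⟩ := exists_coord hgen (one X U.1)
  refine ⟨⟨U, e, he, φ, hφ, E, hE0, hE, σ, hσ, g, hg, G, hG, hGdvd, ν • η, hω, hres,
    c • rs M (hle.trans inf_le_right : U.1 ≤ W₃) μ₁,
    IsGen_smul_isUnit hμ' (isUnit_of_isGen_smul hgen (hc ▸ isGen_one U.1)), ?_⟩, hxU⟩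
  erw [tmul_smul_right, Scheme.Modules.Hom.app_smul]
  exact hc.symm

omit [Smooth f] in
/-- the forms are compatible -/
theorem compat (hNk : (N : k) ≠ 0) (hL : PicF.IsInvertible L) (C C' : Chart f D α i s M hM Λ)
    (W : X.affineOpens) (h : W.1 ≤ C.U.1) (h' : W.1 ≤ C'.U.1) (hW : Nonempty W.1) (c : Γ(X, W.1))
    (hc : rs M h C.μ = c • rs M h' C'.μ) :
    c • rs Λ.L h C.ω = c • rs Λ.L h' C'.ω + (LogNCD.der Λ).app W.1 c := by
  set I := CycCov.floorIdeal D α N i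
  have hea : IsGen L W.1 (rs L h C.e) := C.he.res h
  have heb : IsGen L W.1 (rs L h' C'.e) := C'.he.res h'
  obtain ⟨β, hβ⟩ := exists_coord heb (rs L h C.e)
  have h1 := I.map_ideal (U := W) (V := C.U) h
  have h2 := I.map_ideal (U := W) (V := C'.U) h'
  rw [C.hE, Ideal.map_span, Set.image_singleton] at h1
  rw [C'.hE, Ideal.map_span, Set.image_singleton, ← h1] at h2
  obtain ⟨γ, hγ⟩ := (Ideal.span_singleton_eq_span_singleton.mp h2 :
    Associated (rf h' C'.E) (rf h C.E))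
  have hσ : rs _ h C.σ = (γ : Γ(X, W.1)) • rs _ h' C'.σ := by
    refine Lib.ClSub.Sections.idealModι_app_injective I W.1 ?_
    rw [Scheme.Modules.Hom.app_smul, CycPush.idealι_rs, CycPush.idealι_rs, C.hσ, C'.hσ, ← hγ]
    exact mul_comm (rf h' C'.E) (γ : Γ(X, W.1))
  have p : rs _ h (hM.hom.app C.U.1 (SecTwist.tmul (CycCov.intPart L D α N i) M C.U.1
      (SecTwist.tmul (CohB1.tensorPow L i) (ClSub.idealMod I) C.U.1
        (CycCov.lpow L C.U.1 C.e i) C.σ) C.μ)) =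
      ((β ^ i * γ) * c) • rs _ h' (hM.hom.app C'.U.1
        (SecTwist.tmul (CycCov.intPart L D α N i) M C'.U.1
          (SecTwist.tmul (CohB1.tensorPow L i) (ClSub.idealMod I) C'.U.1
            (CycCov.lpow L C'.U.1 C'.e i) C'.σ) C'.μ)) := by
    rw [rs_app, rs_app, rs_tmul, rs_tmul, ← Scheme.Modules.Hom.app_smul, hc]
    congr 1
    have q : rs (CycCov.intPart L D α N i) h (SecTwist.tmul (CohB1.tensorPow L i) (ClSub.idealMod I)
        C.U.1 (CycCov.lpow L C.U.1 C.e i) C.σ) =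
        (β ^ i * γ) • rs (CycCov.intPart L D α N i) h' (SecTwist.tmul (CohB1.tensorPow L i)
          (ClSub.idealMod I) C'.U.1 (CycCov.lpow L C'.U.1 C'.e i) C'.σ) := by
      erw [rs_tmul, rs_tmul, Frames.rs_lpow, Frames.rs_lpow, hβ, Geom.lpow_smul, hσ,
        Lib.Ample.GenLocus.tmul_smul]
    rw [q]
    exact Lib.Ample.GenLocus.tmul_smul _ _ _ _
  rw [C.hone, C'.hone] at p
  have hone' : ∀ {U : X.Opens} (hh : W.1 ≤ U), rs (Coh.structureModule X) hh (one X U) = one X W.1 :=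
    fun hh => map_one (X.presheaf.map (homOfLE hh).op).hom
  rw [hone', hone'] at p
  have hu : (β ^ i * γ) * c = 1 :=
    Geom.coord_unique (isGen_one W.1) (p.symm.trans (one_smul _ _).symm)
  -- `φ' = φ β^N`
  have hφ' : rf h' C'.φ = rf h C.φ * β ^ N := by
    refine Geom.coord_unique (Frames.isGen_lpow heb N) ?_
    have e1 := Frames.phi_res s h C.e C.φ C.hφ
    have e2 := Frames.phi_res s h' C'.e C'.φ C'.hφ
    rw [hβ, Geom.lpow_smul, smul_smul] at e1
    exact e2.symm.trans e1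
  have hG : rf h C.G = rf h' C'.G * c ^ N := by
    have e1 : rf h C.φ ^ i = rf h C.E ^ N * rf h C.G := by
      simpa only [map_pow, map_mul] using congrArg (X.presheaf.map (homOfLE h).op).hom C.hG
    have e2 : rf h' C'.φ ^ i = rf h' C'.E ^ N * rf h' C'.G := by
      simpa only [map_pow, map_mul] using congrArg (X.presheaf.map (homOfLE h').op).hom C'.hG
    rw [hφ', mul_pow, e1, ← pow_mul, mul_comm N i, pow_mul, ← hγ] at e2
    have hne : rf h' C'.E ^ N ≠ 0 := pow_ne_zero _ (CycPush.rf_ne_zero h' hW C'.hE0)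
    have e3 : (γ : Γ(X, W.1)) ^ N * rf h C.G * (β ^ i) ^ N = rf h' C'.G :=
      mul_left_cancel₀ hne (by rw [← e2, mul_pow (rf h' C'.E)]; ring)
    rw [← e3]
    calc rf h C.G = rf h C.G * ((β ^ i * γ) * c) ^ N := by rw [hu, one_pow, mul_one]
      _ = _ := by ring
  obtain ⟨cu, hcu⟩ : IsUnit c := IsUnit.of_mul_eq_one _ ((mul_comm _ _).trans hu)
  set η := ((cu⁻¹ : Γ(X, W.1)ˣ) : Γ(X, W.1)) • (LogNCD.der Λ).app W.1 c
  have hη : IsDlog (LogNCD.der Λ) c η := by
    show c • η = _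
    rw [smul_smul, ← hcu, Units.mul_inv, one_smul]
  have h3 := C.hω.res h
  have h4 := (C'.hω.res h').mul (hη.pow N)
  rw [← hG] at h4
  rw [rs_smul] at h3 h4
  have hcastN : ∀ {V : X.Opens} (hV : W.1 ≤ V), rf hV (N : Γ(X, V)) = (N : Γ(X, W.1)) := fun hV =>
    map_natCast (X.presheaf.map (homOfLE hV).op).hom N
  rw [hcastN] at h3 h4
  rw [← smul_add] at h4
  -- torsion
  obtain ⟨htor, -⟩ := Λ.rule W (fun l => rf h (C.g l)) fun l => by
    rw [← (CycCov.poleDiv D α N i l).map_ideal (U := W) (V := C.U) h, C.hg, Ideal.map_span,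
      Set.image_singleton]
    rfl
  have htorN : ∀ (n : ℕ) (z : Γ(Λ.L, W.1)), (∏ l, rf h (C.g l)) ^ n • z = 0 → z = 0 := by
    intro n
    induction n with
    | zero => intro z hz; rwa [pow_zero, one_smul] at hz
    | succ n ih =>
      intro z hz
      rw [pow_succ, mul_smul] at hz
      exact htor z (ih _ hz)
  obtain ⟨q, hq⟩ := C.hGdvd
  have h5 : (N : Γ(X, W.1)) • (rs Λ.L h C.ω - (rs Λ.L h' C'.ω + η)) = 0 := by
    refine htorN N _ ?_
    have hq' : (∏ l, rf h (C.g l)) ^ N = rf h C.G * rf h q := by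
      simpa only [map_pow, map_prod, map_mul] using congrArg (X.presheaf.map (homOfLE h).op).hom hq
    rw [hq', mul_comm, mul_smul, smul_sub, smul_sub]
    refine (congrArg (rf h q • ·) (sub_eq_zero.mpr (h3.trans h4.symm))).trans ?_
    exact smul_zero _
  have h6 : rs Λ.L h C.ω = rs Λ.L h' C'.ω + η :=
    sub_eq_zero.mp ((isUnit_natCast f hNk W.1).smul_eq_zero.mp h5)
  rw [h6, smul_add, smul_smul, ← hcu, Units.mul_inv, one_smul, hcu]

omit [Smooth f] in
theorem main (hN : 0 < N) (hNk : (N : k) ≠ 0) (hL : PicF.IsInvertible L)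
    (hD : LogNCD.IsNCD D f) (hs : CycCov.IsZeroDiv (CohB1.tensorPow L N) s (CycCov.divIdeal D α))
    (hM : CohB1.tensorMod (CycCov.intPart L D α N i) M ≅ Coh.structureModule X) :
    ∃ nabla : Coh.toAb M ⟶ Coh.toAb (CohB1.tensorMod M Λ.L),
      ConnSh.IsConn (LogNCD.der Λ) M nabla ∧
      ∀ j : Fin r, ∃ ρ : M ⟶ CohB1.tensorMod M (ClSub.quotMod (CycCov.poleDiv D α N i j)),
        LogNCD.IsResidue Λ M nabla j ρ ∧
        N • ρ = CycCov.resNum α N i j • ((SecTwist.unitorR M).inv ≫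
          KoszTw.tensorMap (𝟙 M) (ClSub.toSubscheme (CycCov.poleDiv D α N i j))) := by
  classical
  have hMi : PicF.IsInvertible M := Lib.TensorMod.TensorInv.isInvertible_of_tensor_iso
    (Lib.TensorMod.Basic.comm M (CycCov.intPart L D α N i) ≪≫ hM)
  choose C hxC using exists_chartData f D α i s M hM Λ hN hNk hL hD hs hMi
  have hC : (⨆ x, (C x).U.1) = ⊤ := top_le_iff.mp fun x _ => Opens.mem_iSup.mpr ⟨x, hxC x⟩
  obtain ⟨nabla, hconn, hval⟩ := exists_conn_of_gen (LogNCD.der Λ) hC (fun x => (C x).μ)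
    (fun x => (C x).hμ) (fun x => (C x).ω) fun a b W ha hb c hc => by
      refine sections_ext_cover (fun W' : {W' : X.affineOpens // W'.1 ≤ W} => W'.1.1) Λ.L (V := W)
        (fun x hx => ?_) fun W' => ?_
      · obtain ⟨W', hW', hxW'⟩ := Lib.ClSub.Basis.exists_affine_le hx
        exact Opens.mem_iSup.mpr ⟨⟨W', hW'⟩, hxW'⟩
      · set Z : X.affineOpens := ⟨W ⊓ W'.1.1, by rw [inf_eq_right.mpr W'.2]; exact W'.1.2⟩
        change rs Λ.L (inf_le_left : Z.1 ≤ W) _ = rs Λ.L (inf_le_left : Z.1 ≤ W) _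
        rw [rs_add, rs_smul, rs_smul, rs_rs, rs_rs, der_rs]
        rcases isEmpty_or_nonempty Z.1 with he | hne
        · have hb' : Z.1 = ⊥ := Opens.ext (Set.eq_empty_of_forall_notMem fun y hy => he.false ⟨y, hy⟩)
          haveI : Subsingleton Γ(X, Z.1) := by rw [hb']; infer_instance
          exact Module.subsingleton Γ(X, Z.1) Γ(Λ.L, Z.1) |>.elim _ _
        · have hcZ : rs M ((inf_le_left : Z.1 ≤ W).trans ha) (C a).μ =
              rf (inf_le_left : Z.1 ≤ W) c • rs M ((inf_le_left : Z.1 ≤ W).trans hb) (C b).μ := by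
            rw [← rs_rs _ ha inf_le_left, hc, rs_smul, rs_rs]
          exact compat f D α i s M hM Λ hNk hL (C a) (C b) Z _ _ hne _ hcZ
  refine ⟨nabla, hconn, fun j => ?_⟩
  obtain ⟨ρ, hρ, -⟩ := Lib.LogNCD37.Residue.exists_residue Λ M nabla hconn j
  refine ⟨ρ, hρ, hom_ext_gen hC (fun x => (C x).μ) (fun x => (C x).hμ) fun x => ?_⟩
  set U := (C x).U.1
  rw [← Lib.LogNCD37.Assemble.ev_apply, ← Lib.LogNCD37.Assemble.ev_apply, map_nsmul, map_nsmul]
  rw [← Nat.cast_smul_eq_nsmul Γ(X, U), ← Nat.cast_smul_eq_nsmul Γ(X, U),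
    Lib.LogNCD37.Assemble.ev_apply, Lib.LogNCD37.Assemble.ev_apply]
  have hρv : ρ.app U (C x).μ = SecTwist.tmul M _ U (C x).μ ((Λ.res j).app U (C x).ω) := by
    have h1 := congrArg (fun t => ConnSh.secApp t U (C x).μ) hρ
    refine h1.trans ?_
    show (KoszTw.tensorMap (𝟙 M) (Λ.res j)).app U (ConnSh.secApp nabla U (C x).μ) = _
    rw [hval x]
    exact KoszTw.tensorMap_tmul (𝟙 M) (Λ.res j) U _ _
  have hcan : ((SecTwist.unitorR M).inv ≫
      KoszTw.tensorMap (𝟙 M) (ClSub.toSubscheme (CycCov.poleDiv D α N i j))).app U (C x).μ =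
      SecTwist.tmul M _ U (C x).μ (LogNCD.oneOn (CycCov.poleDiv D α N i j) U) := by
    have h1 : (SecTwist.unitorR M).inv.app U (C x).μ =
        SecTwist.tmul M (Coh.structureModule X) U (C x).μ (one X U) := by
      have h2 : (SecTwist.unitorR M).hom.app U (SecTwist.tmul M (Coh.structureModule X) U (C x).μ (one X U)) =
          (C x).μ := (SecTwist.unitorR_tmul M U _ _).trans (one_smul Γ(X, U) _)
      conv_lhs => rw [← h2]
      change ((SecTwist.unitorR M).hom ≫ (SecTwist.unitorR M).inv).app U _ = _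
      rw [Iso.hom_inv_id]
      rfl
    show (KoszTw.tensorMap (𝟙 M) (ClSub.toSubscheme _)).app U ((SecTwist.unitorR M).inv.app U (C x).μ) = _
    rw [h1]
    exact KoszTw.tensorMap_tmul (𝟙 M) _ U _ _
  rw [hρv, hcan, ← tmul_smul_right, ← tmul_smul_right, (C x).hres j]

end Groth.Agent.H12.CycConn
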